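import Groth.Agent.AlgSpDec.MonoPoint
import Groth.Agent.AlgSpDec.MonoRep
import Groth.Agent.AlgSpDec.LimOpen
import Groth.Agent.AlgSpPts.Field

/-!
# The fibre over a quasi-compact monomorphic point is embedded
-/

set_option backward.isDefEq.respectTransparency false
set_option backward.isDefEq.respectTransparency.types false
set_option linter.style.haveILetI false

universe u

open CategoryTheory CategoryTheory.Limits AlgebraicGeometry AlgSp TopologicalSpace Topology
open Groth.Agent.AlgSpLib Groth.Agent.AlgSpPts Groth.Agent.AlgSpDec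

namespace Groth.Agent.FibreEmb

/-- A monomorphism out of a scheme with field stalks and discrete image is a preimmersion. -/
theorem isPreimmersion_of_mono {V U : Scheme.{u}} (l : V ⟶ U) [Mono l]
    (hstalk : ∀ v, IsField ↥(V.presheaf.stalk v)) (hl : IsEmbedding l) : IsPreimmersion l := by
  refine { toSurjectiveOnStalks := ⟨fun v => ?_⟩, isEmbedding := hl }
  -- residue extensions of monomorphisms are trivial
  let φ := l.residueFieldMap v
  have hm : Mono (Spec.map φ) := by
    have : Mono (Spec.map φ ≫ U.fromSpecResidueField (l v)) := by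
      rw [Scheme.Hom.SpecMap_residueFieldMap_fromSpecResidueField]; infer_instance
    exact mono_of_mono _ (U.fromSpecResidueField (l v))
  haveI : Nonempty ↥(Spec (V.residueField v)) := ⟨IsLocalRing.closedPoint _⟩
  haveI : IsIso (Spec.map φ) := isIso_of_mono_to_field (K := ↥(U.residueField (l v))) (Spec.map φ)
  haveI : IsIso φ := by
    rw [← isIso_op_iff, ← isIso_iff_of_reflects_iso φ.op Scheme.Spec]
    exact ‹IsIso (Spec.map φ)›
  intro b
  obtain ⟨c, hc⟩ := (ConcreteCategory.bijective_of_isIso φ).2 (V.residue v b)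
  obtain ⟨a, rfl⟩ := U.residue_surjective (l v) c
  refine ⟨a, ?_⟩
  let := (hstalk v).toField
  refine (V.residue v).hom.injective ?_
  exact (congrArg (fun k : U.presheaf.stalk (l v) ⟶ V.residueField v => k a)
    (Scheme.residue_residueFieldMap l v)).symm.trans hc

variable {S : Scheme.{u}} {Y : Sp S}

/-- The base change of a quasi-compact monomorphic point to an affine chart is a preimmersion. -/
theorem isPreimmersion_chart (hY : IsAlgSpace Y) (r : FieldPt Y) [Mono r.toHom]
    (hq : RepWith @QuasiCompact r.toHom) {U : Over S} [IsAffine U.left] {a : (yon S).obj U ⟶ Y}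
    (ha : RepWith @Etale a) {V : Over S} {v₁ : V ⟶ r.pt} {l : V ⟶ U}
    (sq : IsPullback ((yon S).map v₁) ((yon S).map l) r.toHom a) : IsPreimmersion l.left := by
  haveI : Mono l := (yon S).mono_of_mono_map (PullbackCone.mono_snd_of_is_pullback_of_mono sq.isLimit)
  haveI : Mono l.left := inferInstanceAs (Mono ((Over.forget S).map l))
  haveI : Etale v₁.left := ha.property r.toHom _ _ sq.flip
  haveI : QuasiCompact l.left := hq.property a _ _ sq
  haveI : CompactSpace ↥V.left := QuasiCompact.compactSpace_of_compactSpace l.left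
  haveI : Subsingleton ↥r.pt.left := inferInstanceAs (Subsingleton (PrimeSpectrum r.K))
  have hd : DiscreteTopology ↥V.left := by
    have h1 := v₁.left.isDiscrete_preimage_singleton (IsLocalRing.closedPoint r.K)
    rw [show v₁.left ⁻¹' {IsLocalRing.closedPoint r.K} = Set.univ from
      Set.eq_univ_of_forall fun x => Subsingleton.elim (α := ↥r.pt.left) _ _] at h1
    exact isDiscrete_univ_iff.1 h1
  haveI : IsReduced r.pt.left := inferInstanceAs (IsReduced (Spec (CommRingCat.of r.K)))
  haveI : IsReduced V.left := isReduced_of_etaleMor v₁.left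
  have hstalk : ∀ v, IsField ↥(V.left.presheaf.stalk v) := fun v =>
    isField_stalk_of_closure_mem_irreducibleComponents V.left v (by
      rw [closure_discrete]
      exact ⟨isIrreducible_singleton, fun s hs hvs w hw => by
        have hs' : s.Subsingleton := fun x hx y hy => by
          by_contra hne
          obtain ⟨z, -, hz, hz'⟩ := hs.2 {x} {y} (isOpen_discrete _) (isOpen_discrete _) ⟨x, hx, rfl⟩ ⟨y, hy, rfl⟩
          exact hne (hz.symm.trans hz')
        exact hs' hw (hvs rfl)⟩)
  have hinj : Function.Injective l.left := l.left.injective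
  have hfinx : ∀ (V' : Over S) (b : (yon S).obj V' ⟶ Y), IsAffine V'.left → RepWith @Etale b →
      (Points.ofPt b ⁻¹' {Points.mk r}).Finite := fun V' b _ hb => finite_fibre_of_repWith hb r hq
  have hF : ∀ v, Points.ofPt a (l.left v) = Points.mk r := fun v => by
    rw [← ofPt_comp, ← sq.w, ofPt_comp, mk_eq_ofPt]
    exact congrArg _ (Subsingleton.elim (α := ↥r.pt.left) _ _)
  have hsing : ∀ v, IsOpen[TopologicalSpace.induced l.left inferInstance] ({v} : Set ↥V.left) := fun v => by
    obtain ⟨O, hO, hvO, hOF⟩ := isOpen_singleton_fibre (hfinx U a inferInstance ha) (hF v)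
      fun w hw hwv => (eq_of_specializes _ hfinx ha (hF v) hw hwv).symm
    refine ⟨O, hO, Set.Subset.antisymm (fun w hw => hinj (hOF ⟨hw, hF w⟩)) ?_⟩
    rintro w rfl
    exact hvO
  refine isPreimmersion_of_mono l.left hstalk ⟨⟨TopologicalSpace.ext_iff.2 fun W => ⟨fun _ => ?_, fun _ => isOpen_discrete W⟩⟩, hinj⟩
  rw [← Set.biUnion_of_singleton W]
  exact @isOpen_biUnion _ _ (TopologicalSpace.induced l.left inferInstance) _ _ fun v _ => hsing v

variable {X Xk : Sp S}

/-- The fibre over a quasi-compact monomorphic point maps homeomorphically to the preimage of the point. -/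
theorem isEmbedding_fibre (hX : IsAlgSpace X) (hY : IsAlgSpace Y) (f : X ⟶ Y) (r : FieldPt Y) [Mono r.toHom]
    (hq : RepWith @QuasiCompact r.toHom) {fst : Xk ⟶ X} {snd : Xk ⟶ (yon S).obj r.pt}
    (hsq : IsPullback fst snd f r.toHom) :
    IsEmbedding (Points.map fst) ∧ Set.range (Points.map fst) = Points.map f ⁻¹' {Points.mk r} := by
  haveI : Subsingleton ↥r.pt.left := inferInstanceAs (Subsingleton (PrimeSpectrum r.K))
  haveI : Mono fst := hsq.mono_fst_of_mono
  have hinj := injective_points_map_of_mono fst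
  have hrange : Set.range (Points.map fst) = Points.map f ⁻¹' {Points.mk r} := by
    ext x
    refine ⟨?_, fun hx => ?_⟩
    · rintro ⟨z, rfl⟩
      show Points.map f (Points.map fst z) = Points.mk r
      rw [← Points.map_comp, hsq.w, Points.map_comp, mk_eq_ofPt, Points.ofPt_eq_map_ofScheme]
      exact congrArg _ ((Points.schemeHomeo r.pt).symm.injective (Subsingleton.elim _ _))
    · obtain ⟨z, hz, -⟩ := exists_point_of_isPullback hsq (x := x)
        (y := Points.ofScheme r.pt (IsLocalRing.closedPoint r.K)) (by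
          rw [← Points.ofPt_eq_map_ofScheme, ← mk_eq_ofPt]; exact hx)
      exact ⟨z, hz⟩
  refine ⟨⟨⟨TopologicalSpace.ext_iff.2 fun C => ⟨fun hC => ?_, ?_⟩⟩, hinj⟩, hrange⟩
  swap
  · rintro ⟨O, hO, rfl⟩
    exact hO.preimage (Points.continuous_map fst)
  -- around each point of `C` use a chart over an affine chart of the base
  have key : ∀ z ∈ C, ∃ O : Set (Points X), IsOpen O ∧ Points.map fst z ∈ O ∧ O ∩ Set.range (Points.map fst) ⊆ Points.map fst '' C := by
    intro z hz
    obtain ⟨U, a, u, hU, ha, hu⟩ := exists_affine_chart_at hY (Points.map f (Points.map fst z))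
    haveI : IsAffine U.left := hU
    obtain ⟨V₀, b, hb, hbs⟩ := (isAlgSpace_pullback hX (IsAlgSpace.yon_obj U) hY f a).atlas
    obtain ⟨g, hg⟩ := (yon S).map_surjective (b ≫ pullback.snd f a)
    let c : (yon S).obj V₀ ⟶ X := b ≫ pullback.fst f a
    have hc : RepWith @Etale c := repWith_comp hb (repWith_fst f ha)
    have hcf : c ≫ f = (yon S).map g ≫ a := by
      rw [Category.assoc, pullback.condition, hg, Category.assoc]
    -- base changes of the point
    have sqU := hq.rep.isPullback' a
    let l := hq.rep.snd a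
    haveI : IsPreimmersion l.left := isPreimmersion_chart hY r hq ha sqU
    let l' : pullback l g ⟶ V₀ := pullback.snd l g
    haveI : IsPreimmersion l'.left :=
      MorphismProperty.of_isPullback ((IsPullback.of_hasPullback l g).map (Over.forget S)) ‹_›
    have sqV : IsPullback ((yon S).map (pullback.fst l g ≫ hq.rep.fst' a)) ((yon S).map l') r.toHom (c ≫ f) := by
      rw [hcf, Functor.map_comp]
      exact ((IsPullback.of_hasPullback l g).map (yon S)).paste_horiz sqU
    let e : (yon S).obj (pullback l g) ⟶ Xk := hsq.lift ((yon S).map l' ≫ c)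
      ((yon S).map (pullback.fst l g ≫ hq.rep.fst' a)) (by rw [Category.assoc]; exact sqV.w.symm)
    have he : ∀ t, Points.map fst (Points.ofPt e t) = Points.ofPt c (l'.left t) := fun t => by
      rw [Points.map_ofPt, hsq.lift_fst, ofPt_comp]
    obtain ⟨O', hO', hO'C⟩ := l'.left.isEmbedding.isInducing.isOpen_iff.1
      (hC.preimage (Points.continuous_ofPt e))
    refine ⟨Points.ofPt c '' O', isOpenMap_ofPt hc _ hO', ?_, ?_⟩
    · obtain ⟨p, hp, -⟩ := exists_point_of_isPullback (IsPullback.of_hasPullback f a)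
        (x := Points.map fst z) (y := Points.ofScheme U u) (by rw [← Points.ofPt_eq_map_ofScheme, hu])
      obtain ⟨v, rfl⟩ := surjective_ofPt hbs p
      rw [Points.map_ofPt] at hp
      obtain ⟨t, -, ht⟩ := exists_ofPt_of_eq sqV (u := IsLocalRing.closedPoint r.K) (v := v) (by
        rw [← mk_eq_ofPt, ← Points.map_ofPt, hp]
        exact ((hrange.le ⟨z, rfl⟩ : _)).symm)
      have hte : Points.ofPt e t = z := hinj (by rw [he, ht, hp])
      refine ⟨v, ?_, hp⟩
      rw [← ht]
      exact hO'C.ge (show Points.ofPt e t ∈ C by rw [hte]; exact hz)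
    · rintro _ ⟨⟨v, hv, rfl⟩, w, hw⟩
      obtain ⟨t, -, ht⟩ := exists_ofPt_of_eq sqV (u := IsLocalRing.closedPoint r.K) (v := v) (by
        rw [← mk_eq_ofPt, ← Points.map_ofPt, ← hw]
        exact ((hrange.le ⟨w, rfl⟩ : _)).symm)
      refine ⟨Points.ofPt e t, hO'C.le (show t ∈ l'.left ⁻¹' O' from ?_), by rw [he, ht]⟩
      show l'.left t ∈ O'
      rw [ht]; exact hv
  choose O hO hzO hOC using key
  refine isOpen_induced_iff.2 ⟨⋃ z : C, O z.1 z.2, isOpen_iUnion fun z => hO z.1 z.2, Set.Subset.antisymm ?_ ?_⟩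
  · rintro w hw
    obtain ⟨z, hz⟩ := Set.mem_iUnion.1 hw
    obtain ⟨w', hw', e⟩ := hOC z.1 z.2 ⟨hz, w, rfl⟩
    exact hinj e ▸ hw'
  · exact fun w hw => Set.mem_iUnion.2 ⟨⟨w, hw⟩, hzO w hw⟩

end Groth.Agent.FibreEmb
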